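import Cfsg.Agent.SM.F4L.Ker

/-!
# SM (S3570), `F₄(q)`, `q` even: the box `BoxL` (helper48)
-/

set_option autoImplicit false

namespace Cfsg.Agent.SM.F4L

open Cfsg Cfsg.Lie Cfsg.Agent.ChevalleyStructure.Elts Cfsg.Agent.SM.F4 Cfsg.Agent.H70.ChevFix Cfsg.Agent.H70.ChevField
  Cfsg.Agent.Schreier.ChevLocal Subgroup
open Cfsg.Agent.H95.DG.F4 (hD)

variable {F : Type} [Field F]

/-- `C(x_47(1))` -/
def MS (F : Type) [Field F] : Subgroup (SS F) := (H82.RootCent.M F chevF4 [14, 20, 22]).subgroupOf (chevF4.group F)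

theorem mem_MS {g : SS F} : g ∈ MS F ↔ (g : GG F) ∈ H82.RootCent.M F chevF4 [14, 20, 22] := Iff.rfl

theorem MS_le_KS [CharP F 2] : MS F ≤ KS F := fun _ hg => M_le_KK hg

theorem MS_comm {g : SS F} (hg : g ∈ MS F) (t : F) : g * xe hD 47 t = xe hD 47 t * g :=
  Subtype.ext (mem_centralizer_singleton_iff.1 (H82.RootCent.M_comm hD (S2178.datLong F) t hg))

theorem mem_MS_one {g : SS F} (hg : g * xe hD 47 (1 : F) = xe hD 47 (1 : F) * g) : g ∈ MS F := by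
  rw [mem_MS, ← H82.RootCent.main hD (S2178.datLong F)]
  exact ⟨g.2, mem_centralizer_singleton_iff.2 (congrArg Subtype.val hg)⟩

theorem mem_MS_of {g : SS F} {t : F} (ht : t ≠ 0) (hg : g * xe hD 47 t = xe hD 47 t * g) : g ∈ MS F := by
  have h1 := he_conj (F := F) hD (i := 3) (s := 47) (by decide) (by decide) ht 1
  rw [show chevF4.cartan 3 47 = 1 by decide +kernel, zpow_one, mul_one] at h1
  obtain ⟨h, hh⟩ : ∃ h, h = he hD (chevF4.simple 3) t := ⟨_, rfl⟩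
  rw [← hh] at h1
  have h2 : h⁻¹ * g * h ∈ MS F := by
    apply mem_MS_one
    rw [← h1] at hg
    calc h⁻¹ * g * h * xe hD 47 (1 : F) = h⁻¹ * (g * (h * xe hD 47 (1 : F) * h⁻¹)) * h := by group
      _ = _ := by rw [hg]; group
  have h3 : (h : GG F) ∈ chevF4.diagonalSubgroup F := by
    rw [hh]
    exact he_mem_HH hD (by decide) ht
  have h4 := H82.RootCent.diag_conj_M hD (S2178.datLong F) h3 (mem_MS.1 h2)
  rw [mem_MS]
  have e : (h : GG F) * ((h⁻¹ * g * h : SS F) : GG F) * (h : GG F)⁻¹ = g := by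
    push_cast
    group
  rwa [e] at h4

theorem cen_eq {z : SS F} (hz : z ∈ Z0 F) (h1 : z ≠ 1) : centralizer {z} = MS F := by
  obtain ⟨t, rfl⟩ := (mem_XX hD).1 hz
  have ht : t ≠ 0 := by
    rintro rfl
    exact h1 (xe_zero hD 47)
  ext g
  rw [mem_centralizer_singleton_iff]
  exact ⟨mem_MS_of ht, fun hg => MS_comm hg t⟩

theorem L0_le_MS : L0 F ≤ MS F := fun g hg => mem_MS_one (((mem_L0 g).1 hg).1 _ (xe_mem_XX hD 47 1))

theorem L0_le_KS [CharP F 2] : L0 F ≤ KS F := L0_le_MS.trans MS_le_KS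

theorem rL_tab : ∀ r ∈ rL, r < 48 ∧ r ≠ 47 ∧ r ≠ chevF4.neg 47 ∧ chevF4.commTerms 47 r = [] ∧ r ≠ 0 ∧
    r ≠ chevF4.neg 0 ∧ chevF4.commTerms 0 r = [] := by decide +kernel

theorem xe_mem_L0 {r : ℕ} (hr : r ∈ rL) (t : F) : xe hD r t ∈ L0 F := by
  obtain ⟨h1, h2, h3, h4, h5, h6, h7⟩ := rL_tab r hr
  rw [mem_L0]
  constructor
  · intro z hz
    obtain ⟨s, rfl⟩ := (mem_XX hD).1 hz
    exact Subtype.ext (H82.RootCent.commute_of hD (by decide) h1 h2 h3 (by rw [h4]; simp) s t)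
  · intro z hz
    obtain ⟨s, rfl⟩ := (mem_XX hD).1 hz
    exact Subtype.ext (H82.RootCent.commute_of hD (by decide) h1 h5 h6 (by rw [h7]; simp) s t)

theorem rQ_pos : ∀ r ∈ rQ, chevF4.IsPosRoot r := by decide +kernel

theorem Q0_le_UU : Q0 F ≤ UU chevF4 F := gen_le fun r hr t => xG_mem_posUnipotent hD (rQ_pos r hr) t

theorem Q0_le_MS : Q0 F ≤ MS F := gen_le fun r hr t => H82.RootCent.xG_pos_mem_M hD (rQ_pos r hr) t

theorem MS_eq : MS F = Q0 F ⊔ L0 F := by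
  refine le_antisymm (fun g hg => ?_) (sup_le Q0_le_MS L0_le_MS)
  have key : ∀ r ∈ rQ ++ rL, ∀ t : F, xG hD r t ∈ (Q0 F ⊔ L0 F).map (chevF4.group F).subtype := by
    intro r hr t
    refine ⟨xe hD r t, ?_, rfl⟩
    rcases List.mem_append.1 hr with h | h
    · exact mem_sup_left (xe_mem_gen h t)
    · exact mem_sup_right (xe_mem_L0 h t)
  have h : H82.RootCent.M F chevF4 [14, 20, 22] ≤ (Q0 F ⊔ L0 F).map (chevF4.group F).subtype := by
    refine (H82.RootCent.M_le_iff hD _).2 ⟨fun s hs c => key s (pos_tab s hs.1 hs) c, fun s hs c => key s ?_ c⟩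
    revert s
    decide
  exact (mem_map_iff_mem (chevF4.group F).subtype_injective).1 (h hg)

/-- the kernel of the action on the module -/
def Kr (F : Type) [Field F] : Subgroup (SS F) := (rho F).ker.map (KS F).subtype

theorem mem_Kr {g : SS F} : g ∈ Kr F ↔ g ∈ KS F ∧ r0 (g : GG F) = 1 := by
  constructor
  · rintro ⟨k, hk, rfl⟩
    exact ⟨k.2, congrArg Subtype.val (MonoidHom.mem_ker.1 hk)⟩
  · rintro ⟨h1, h2⟩
    exact ⟨⟨g, h1⟩, MonoidHom.mem_ker.2 (Subtype.ext h2), rfl⟩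

theorem conj_mem_Kr {c g : SS F} (hc : c ∈ KS F) (hg : g ∈ Kr F) : c * g * c⁻¹ ∈ Kr F := by
  obtain ⟨h1, h2⟩ := mem_Kr.1 hg
  refine mem_Kr.2 ⟨mul_mem (mul_mem hc h1) (inv_mem hc), ?_⟩
  have h3 : ((c : GG F))⁻¹ ∈ St F md6 := inv_mem (mem_KS.1 hc).1
  rw [Subgroup.coe_mul, Subgroup.coe_mul, Subgroup.coe_inv, r0_mul _ h3, r0_mul _ (mem_KS.1 h1).1, h2, Matrix.mul_one,
    ← r0_mul _ h3, mul_inv_cancel, r0_one]

theorem Kr_le_BB [CharP F 2] : Kr F ≤ BB chevF4 F := fun _ hg =>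
  mem_BB (mem_St_of (mem_KS.1 (mem_Kr.1 hg).1).1 (mem_Kr.1 hg).2)

theorem Q0_le_Kr [CharP F 2] : Q0 F ≤ Kr F :=
  gen_le fun _ hr t => mem_Kr.2 ⟨xG_mem_KK (List.mem_append_left _ hr) t, r0_Q hr t⟩

theorem nw_wc_mem : nw F wc ∈ L0 F := by
  apply nw_mem
  have h : ∀ i ∈ wc, chevF4.simple i ∈ rL ∧ chevF4.neg (chevF4.simple i) ∈ rL := by decide
  intro i hi
  rw [ne_def]
  exact mul_mem (xe_mem_L0 (h i hi).1 _) (mul_mem (xe_mem_L0 (h i hi).2 _) (xe_mem_L0 (h i hi).1 _))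

/-- **`L₀` acts faithfully on the module** -/
theorem eq_one_of [CharP F 2] {g : SS F} (h1 : g ∈ Kr F) (h2 : g ∈ L0 F) : g = 1 := by
  have h3 : w0 F * g * (w0 F)⁻¹ = nw F wc * g * (nw F wc)⁻¹ := by
    rw [← nt_comm (mul_mem (mul_mem nw_wc_mem h2) (inv_mem nw_wc_mem)), w0]
    group
  have h4 : g ∈ HH chevF4 F := mem_HH (Kr_le_BB h1) (by
    rw [h3]
    exact Kr_le_BB (conj_mem_Kr (L0_le_KS nw_wc_mem) h1))
  exact Subtype.ext (diag_eq_one h4 (mem_Kr.1 h1).2)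

/-- the action of `L₀` -/
def rhoL (F : Type) [Field F] [CharP F 2] : ↥(L0 F) →* Matrix.symplecticGroup (Fin 3) F :=
  (rho F).comp (inclusion L0_le_KS)

theorem rhoL_coe [CharP F 2] (g : ↥(L0 F)) :
    ((rhoL F g : Matrix.symplecticGroup (Fin 3) F) : Matrix I6 I6 F) = r0 ((g : SS F) : GG F) := rfl

theorem rhoL_injective [CharP F 2] : Function.Injective (rhoL F) := by
  rw [injective_iff_map_eq_one]
  intro g hg
  exact Subtype.ext (eq_one_of (mem_Kr.2 ⟨L0_le_KS g.2, congrArg Subtype.val hg⟩) g.2)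

theorem ee_mem [CharP F 2] {a b : I6} (h : b ≠ a.swap) (s : F) : ee a b s ∈ (rhoL F).range :=
  ⟨⟨xe hD (rootOf a b) s, xe_mem_L0 (rootOf_mem a b h) s⟩, Subtype.ext (r0_L h s)⟩

theorem rhoL_surjective [CharP F 2] : Function.Surjective (rhoL F) := by
  rw [← MonoidHom.range_eq_top]
  refine H97.DG.eq_top_of_roots _ (fun a b h1 h2 s => ?_) (fun a s => ?_)
  · have := ee_mem (F := F) h1 s
    rwa [ee, if_neg h2] at this
  · have := ee_mem (F := F) (a := a) (b := a) (by revert a; decide) s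
    rwa [ee, if_pos rfl] at this

/-- **`L₀ ≅ Sp₆(F)`** -/
noncomputable def eqv (F : Type) [Field F] [CharP F 2] : ↥(L0 F) ≃* Matrix.symplecticGroup (Fin 3) F :=
  MulEquiv.ofBijective (rhoL F) ⟨rhoL_injective, rhoL_surjective⟩

/-- **the box `BoxL`** -/
theorem boxL : BoxL := fun F _ _ _ =>
  { cenL := mem_L0
    isoL := ⟨eqv F⟩
    cz := fun _ hz h1 => (cen_eq hz h1).trans MS_eq
    QL := eq_bot_iff.2 fun _ hg => mem_bot.2 (eq_one_of (Q0_le_Kr hg.1) hg.2) }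

end Cfsg.Agent.SM.F4L
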