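import Cfsg.Agent.SM.F4L.Box
import Cfsg.Agent.ChevalleyStructure.Triangular
import Cfsg.Agent.S0276
import Cfsg.Agent.S0775
import Cfsg.Agent.S1030
import Cfsg.Agent.S1047
import Cfsg.Agent.S1048
import Cfsg.Agent.S2174
import Cfsg.Agent.S2179

/-!
# SM (S3570), `F₄(q)`, `q` even: the involutions centralised by an element of order dividing `q² + q + 1` (helper48)
-/

set_option autoImplicit false

namespace Cfsg.Agent.SM.F4L

open Cfsg Cfsg.Lie Cfsg.Agent.ChevalleyStructure.Elts Cfsg.Agent.ChevalleyStructure.F4MaskBase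
  Cfsg.Agent.SM.F4 Cfsg.Agent.H70.ChevFix Cfsg.Agent.Schreier.ChevLocal Subgroup
open Cfsg.Agent.H95.DG.F4 (hD)
open scoped Pointwise Matrix

/-! ### arithmetic -/

theorem not_dvd_q {q r : ℕ} (hr : r.Prime) (h : r ∣ q ^ 2 + q + 1) : ¬ r ∣ q := by
  intro h1
  have h2 : r ∣ q ^ 2 + q := Dvd.dvd.add (h1.trans (dvd_pow_self q two_ne_zero)) h1
  exact hr.one_lt.ne' (Nat.dvd_one.1 ((Nat.dvd_add_right h2).1 h))

theorem not_dvd_four {q r : ℕ} (hq : 1 ≤ q) (hr : r.Prime) (h : r ∣ q ^ 2 + q + 1) (h3 : r ≠ 3) : ¬ r ∣ q ^ 4 - 1 := by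
  intro h1
  have h2 : ((q : ZMod r)) ^ 2 + q + 1 = 0 := by
    have := (ZMod.natCast_eq_zero_iff _ _).2 h
    push_cast at this
    exact this
  have h4 : ((q : ZMod r)) ^ 4 - 1 = 0 := by
    have := (ZMod.natCast_eq_zero_iff _ _).2 h1
    rw [Nat.cast_sub (Nat.one_le_pow _ _ hq)] at this
    push_cast at this
    exact this
  have h5 : ((3 : ℕ) : ZMod r) = 0 := by
    push_cast
    linear_combination (1 + ((q : ZMod r) + 2) * ((q : ZMod r) ^ 2 - q)) * h2 - ((q : ZMod r) + 2) * h4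
  exact h3 ((Nat.prime_dvd_prime_iff_eq hr Nat.prime_three).1 ((ZMod.natCast_eq_zero_iff _ _).1 h5))

theorem not_dvd_two {q r : ℕ} (hq : 1 ≤ q) (hr : r.Prime) (h : r ∣ q ^ 2 + q + 1) (h3 : r ≠ 3) : ¬ r ∣ q ^ 2 - 1 :=
  fun h1 => not_dvd_four hq hr h h3 (h1.trans (by
    have := Nat.sub_one_dvd_pow_sub_one (q ^ 2) 2
    rwa [← pow_mul] at this))

theorem not_dvd_one {q r : ℕ} (hq : 1 ≤ q) (hr : r.Prime) (h : r ∣ q ^ 2 + q + 1) (h3 : r ≠ 3) : ¬ r ∣ q - 1 :=
  fun h1 => not_dvd_four hq hr h h3 (h1.trans (Nat.sub_one_dvd_pow_sub_one q 4))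

theorem card_sup_dvd {G : Type*} [Group G] {C K : Subgroup G} (hK : K ≤ normalizer (C : Set G)) :
    Nat.card (K ⊔ C : Subgroup G) ∣ Nat.card K * Nat.card C := by
  have hN : K ⊔ C ≤ normalizer (C : Set G) := sup_le hK le_normalizer
  have := normal_subgroupOf_of_le_normalizer hN
  have h1 : C.relIndex (K ⊔ C) = C.relIndex K := by
    rw [← relIndex_subgroupOf (le_sup_left : K ≤ K ⊔ C), ← relIndex_sup_right _ (C.subgroupOf (K ⊔ C)),
      ← subgroupOf_sup le_sup_left le_sup_right, subgroupOf_self, relIndex_top_right]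
    rfl
  have h2 : Nat.card (K ⊔ C : Subgroup G) = C.relIndex (K ⊔ C) * Nat.card C := by
    rw [← Nat.card_congr (subgroupOfEquivOfLe (le_sup_right : C ≤ K ⊔ C)).toEquiv, mul_comm]
    exact (card_mul_index _).symm
  rw [h2, h1]
  exact Nat.mul_dvd_mul_right (relIndex_dvd_card _ _) _

variable {F : Type} [Field F]

/-! ### the kernel is unipotent -/

theorem mem_U_of {g : GG F} (hg : g ∈ chevF4.borelSubgroup F) (h1 : r0 g = 1) : g ∈ chevF4.posUnipotent F := by
  have h2 : g ∈ ((chevF4.posUnipotent F ⊔ chevF4.diagonalSubgroup F : Subgroup (GG F)) : Set (GG F)) := hg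
  rw [coe_mul_of_right_le_normalizer_left _ _ (S1036.result chevF4 hD).1] at h2
  obtain ⟨u, hu, h, hh, rfl⟩ := h2
  obtain ⟨c, -, e, -⟩ := H412.OT.tor_data hD hh
  have h3 := (ChevalleyStructure.Triangular.mem_loUni.1 (ChevalleyStructure.Triangular.posUnipotent_le_loUni hD hu)).2
  have h4 : h = 1 := by
    apply diag_eq_one hh
    ext a b
    by_cases hab : a = b
    · subst hab
      have h5 := congrFun (congrFun h1 a) a
      rw [r0_apply] at h5
      dsimp only at h5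
      rw [Units.val_mul, e, Matrix.mul_diagonal, h3, one_mul] at h5
      rw [r0_apply, e, Matrix.diagonal_apply_eq, h5]
    · rw [r0_apply, e, Matrix.diagonal_apply_ne _ (fun k => hab (em_inj k)), Matrix.one_apply_ne hab]
  show u * h ∈ _
  rw [h4, mul_one]
  exact hu

theorem card_U [Fintype F] : Nat.card (chevF4.posUnipotent F) = Fintype.card F ^ 24 := S1027.result chevF4 hD

/-! ### the class of `x_47(1) x_44(1)` -/

/-- the line spanned by `e_44` -/
def fl1 (n : ℕ) : ℕ := if n = 48 then 0 else 1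

theorem fl1_tab : ∀ r < 48, chevF4.IsPosRoot r ∨ r = 20 ∨ r = 22 → chkT fl1 r = true ∧ r ∈ rQ ++ rL := by
  decide +kernel

theorem fl1_em : ∀ a : I6, a ≠ Sum.inl 0 → fl1 (pos (em (Sum.inl 0))) < fl1 (pos (em a)) := by decide

theorem root_le {Y : Subgroup (GG F)} {r : ℕ} (h : ∀ t, xG hD r t ∈ Y) : chevF4.rootSubgroup F r ≤ Y := by
  intro g hg
  obtain ⟨t, rfl⟩ := (mem_rootSubgroup_iff hD r g).1 hg
  exact h t

theorem cw_le [CharP F 2] :
    chevF4.posUnipotent F ⊔ chevF4.rootSubgroup F 20 ⊔ chevF4.rootSubgroup F 22 ≤ KK F ⊓ St F fl1 := by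
  have key : ∀ r < 48, chevF4.IsPosRoot r ∨ r = 20 ∨ r = 22 → ∀ t : F, xG hD r t ∈ KK F ⊓ St F fl1 :=
    fun r hr h t => ⟨xG_mem_KK (fl1_tab r hr h).2 t, xG_mem_St hr (fl1_tab r hr h).1 t⟩
  exact sup_le (sup_le ((posUnipotent_le_iff hD _).2 fun r hr t => key r hr.1 (Or.inl hr) t)
    (root_le (key 20 (by decide) (by simp)))) (root_le (key 22 (by decide) (by simp)))

/-- the line in the module -/
def ln (F : Type) [Field F] : Submodule F (I6 → F) := Submodule.span F {Pi.single (Sum.inl 0) 1}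

theorem mulVec_mem {g : GG F} (hg : g ∈ St F fl1) {v : I6 → F} (hv : v ∈ ln F) : r0 g *ᵥ v ∈ ln F := by
  obtain ⟨c, rfl⟩ := Submodule.mem_span_singleton.1 hv
  rw [Matrix.mulVec_smul]
  refine Submodule.smul_mem _ c (Submodule.mem_span_singleton.2 ⟨r0 g (Sum.inl 0) (Sum.inl 0), ?_⟩)
  rw [Matrix.mulVec_single_one]
  funext a
  by_cases h : a = Sum.inl 0
  · subst h
    simp
  · have h1 : r0 g a (Sum.inl 0) = 0 := mem_St.1 hg _ _ (fl1_em a h)
    simp [h, h1]

theorem card_ln [Fintype F] : Nat.card ↥(stabilizing (spToMat 3 F) (ln F : Set (I6 → F))) =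
    Fintype.card F ^ 5 * (Fintype.card F ^ 4 * ((Fintype.card F ^ 2 - 1) * (Fintype.card F ^ 4 - 1))) *
      (Fintype.card F - 1) := by
  have h := S0775.result (F := F) rfl 3 1 (by decide) (ln F) (finrank_span_singleton (by
    intro h
    have := congrFun h (Sum.inl 0)
    simp at this)) (by
    intro u hu v hv
    obtain ⟨a, rfl⟩ := Submodule.mem_span_singleton.1 hu
    obtain ⟨b, rfl⟩ := Submodule.mem_span_singleton.1 hv
    rw [ClassicalGeometry.SympBasic.sympForm_smul_left, ClassicalGeometry.SympBasic.sympForm_smul_right,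
      ClassicalGeometry.SympBasic.sympForm_self, mul_zero, mul_zero])
  rw [h]
  simp [Finset.prod_range_succ]

theorem no_w [Fintype F] [CharP F 2] {r : ℕ} (hr : r.Prime) (h : r ∣ Fintype.card F ^ 2 + Fintype.card F + 1)
    (h3 : r ≠ 3) {g : SS F} (ho : orderOf g = r)
    (hg : (g : GG F) ∈ chevF4.posUnipotent F ⊔ chevF4.rootSubgroup F 20 ⊔ chevF4.rootSubgroup F 22) : False := by
  have hq : 1 ≤ Fintype.card F := Fintype.card_pos
  have h1 : g ∈ KS F := (cw_le hg).1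
  have h2 : (g : GG F) ∈ St F fl1 := (cw_le hg).2
  have h4 : rho F ⟨g, h1⟩ ∈ stabilizing (spToMat 3 F) (ln F : Set (I6 → F)) := by
    intro v
    refine ⟨fun hv => mulVec_mem h2 hv, fun hv => ?_⟩
    have h5 := mulVec_mem (inv_mem h2) (show r0 (g : GG F) *ᵥ v ∈ ln F from hv)
    rwa [Matrix.mulVec_mulVec, ← r0_mul _ (mem_KS.1 h1).1, inv_mul_cancel, r0_one, Matrix.one_mulVec] at h5
  have h5 : orderOf (rho F ⟨g, h1⟩) ∣ r := by
    rw [← ho, ← Subgroup.orderOf_mk g h1]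
    exact orderOf_map_dvd _ _
  rcases (Nat.dvd_prime hr).1 h5 with h6 | h6
  · have h7 : r0 (g : GG F) = 1 := congrArg Subtype.val (orderOf_eq_one_iff.1 h6)
    have h9 : (g : GG F) ∈ chevF4.borelSubgroup F := Kr_le_BB (mem_Kr.2 ⟨h1, h7⟩)
    have h8 := Subgroup.orderOf_dvd_natCard _ (mem_U_of h9 h7)
    rw [card_U, Subgroup.orderOf_coe, ho] at h8
    exact not_dvd_q hr h (hr.dvd_of_dvd_pow h8)
  · have h7 := Subgroup.orderOf_dvd_natCard _ h4
    rw [h6, card_ln, hr.dvd_mul, hr.dvd_mul, hr.dvd_mul, hr.dvd_mul] at h7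
    rcases h7 with (h7 | h7 | h7 | h7) | h7
    · exact not_dvd_q hr h (hr.dvd_of_dvd_pow h7)
    · exact not_dvd_q hr h (hr.dvd_of_dvd_pow h7)
    · exact not_dvd_two hq hr h h3 h7
    · exact not_dvd_four hq hr h h3 h7
    · exact not_dvd_one hq hr h h3 h7

/-! ### the class of `x_39(1) x_45(1)` -/

/-- the nodes `0, 3` -/
def J2 : Set ℕ := {i | i ∈ [0, 3]}

theorem inSub_iff (r : ℕ) : chevF4.InRootSub J2 r ↔
    r < 48 ∧ ∀ i < 4, i ∉ [0, 3] → (chevF4.coroot.getD r #[]).getD i 0 = 0 := Iff.rfl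

theorem sub_tab : ∀ r < 48, ((∀ i < 4, i ∉ [0, 3] → (chevF4.coroot.getD r #[]).getD i 0 = 0) ↔ r ∈ [33, 14, 24, 23]) := by
  decide +kernel

theorem root_le_P {r : ℕ} (hr : r ∈ [33, 14, 24, 23]) : chevF4.rootSubgroup F r ≤ chevF4.parabolicSubgroup F J2 := by
  have h48 : r < 48 := by
    revert r
    decide
  rw [S1047.result chevF4 hD]
  exact root_le fun t => mem_sup_right (subset_closure ⟨r, t, Or.inr ((inSub_iff r).2 ⟨h48, (sub_tab r h48).2 hr⟩), rfl⟩)

theorem comm_tab : ∀ r ∈ [33, 14], ∀ s ∈ [24, 23], r < 48 ∧ s < 48 ∧ s ≠ r ∧ s ≠ chevF4.neg r ∧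
    chevF4.commTerms r s = [] := by decide +kernel

theorem root_cen {r s : ℕ} (hr : r ∈ [33, 14]) (hs : s ∈ [24, 23]) :
    chevF4.rootSubgroup F r ≤ centralizer (chevF4.rootSubgroup F s : Set (GG F)) := by
  obtain ⟨h1, h2, h3, h4, h5⟩ := comm_tab r hr s hs
  refine root_le fun t => mem_centralizer_iff.2 fun y hy => ?_
  obtain ⟨u, rfl⟩ := (mem_rootSubgroup_iff hD s y).1 hy
  exact H82.RootCent.commute_of hD h1 h2 h3 h4 (by rw [h5]; simp) t u

theorem card_pair [Fintype F] {r : ℕ} (hr : r < 48) :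
    Nat.card ↥(chevF4.rootSubgroup F r ⊔ chevF4.rootSubgroup F (chevF4.neg r)) ∣
      Fintype.card F * (Fintype.card F ^ 2 - 1) := by
  obtain ⟨φ, h, -⟩ := S1030.result (F := F) chevF4 hD r hr
  rw [← h, ← S0276.card_sl_two (F := F) rfl]
  exact card_range_dvd φ

theorem no_v [Fintype F] {r : ℕ} (hr : r.Prime) (h : r ∣ Fintype.card F ^ 2 + Fintype.card F + 1)
    (h3 : r ≠ 3) {g : GG F} (ho : orderOf g = r)
    (hg : g ∈ chevF4.rootSubgroup F 33 ⊔ chevF4.rootSubgroup F 14 ⊔ chevF4.rootSubgroup F 24 ⊔ chevF4.rootSubgroup F 23 ⊔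
      Subgroup.closure {g : GG F | ∃ (r : ℕ) (c : F), chevF4.IsPosRoot r ∧ r ∉ [27, 25, 34, 26] ∧
        (g : Matrix chevF4.Idx chevF4.Idx F) = chevF4.x F r c}) : False := by
  have hq : 1 ≤ Fintype.card F := Fintype.card_pos
  obtain ⟨A, hA⟩ : ∃ A, A = chevF4.rootSubgroup F 33 ⊔ chevF4.rootSubgroup F 14 := ⟨_, rfl⟩
  obtain ⟨B, hB⟩ : ∃ B, B = chevF4.rootSubgroup F 24 ⊔ chevF4.rootSubgroup F 23 := ⟨_, rfl⟩
  have a1 : chevF4.rootSubgroup F 33 ≤ A := hA ▸ le_sup_left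
  have a2 : chevF4.rootSubgroup F 14 ≤ A := hA ▸ le_sup_right
  have b1 : chevF4.rootSubgroup F 24 ≤ B := hB ▸ le_sup_left
  have b2 : chevF4.rootSubgroup F 23 ≤ B := hB ▸ le_sup_right
  have h1 : g ∈ (A ⊔ B) ⊔ chevF4.unipotentRadical F J2 := by
    refine (sup_le (sup_le (sup_le (sup_le ?_ ?_) ?_) ?_) ((closure_le _).2 ?_) : _ ≤ (A ⊔ B) ⊔ _) hg
    · exact le_sup_of_le_left (le_sup_of_le_left a1)
    · exact le_sup_of_le_left (le_sup_of_le_left a2)
    · exact le_sup_of_le_left (le_sup_of_le_right b1)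
    · exact le_sup_of_le_left (le_sup_of_le_right b2)
    · rintro y ⟨s, c, hs, -, e⟩
      rw [(eq_xG_iff hD y s c).2 e]
      by_cases hJ : chevF4.InRootSub J2 s
      · have h2 := (sub_tab s hs.1).1 ((inSub_iff s).1 hJ).2
        have h4 := xG_mem_rootSubgroup hD s c
        simp only [List.mem_cons, List.not_mem_nil, or_false] at h2
        rcases h2 with rfl | rfl | rfl | rfl
        · exact mem_sup_left (mem_sup_left (a1 h4))
        · exact mem_sup_left (mem_sup_left (a2 h4))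
        · exact mem_sup_left (mem_sup_right (b1 h4))
        · exact mem_sup_left (mem_sup_right (b2 h4))
      · exact mem_sup_right (subset_closure ⟨s, c, hs, hJ, rfl⟩)
  have n1 : A ⊔ B ≤ normalizer (chevF4.unipotentRadical F J2 : Set (GG F)) := by
    refine le_trans ?_ (S1048.result chevF4 hD J2).1
    rw [hA, hB]
    exact sup_le (sup_le (root_le_P (by decide)) (root_le_P (by decide)))
      (sup_le (root_le_P (by decide)) (root_le_P (by decide)))
  have n2 : A ≤ normalizer (B : Set (GG F)) := by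
    refine le_trans ?_ (centralizer_le_normalizer _)
    rw [le_centralizer_iff, hB]
    refine sup_le ?_ ?_
    · rw [le_centralizer_iff, hA]
      exact sup_le (root_cen (by decide) (by decide)) (root_cen (by decide) (by decide))
    · rw [le_centralizer_iff, hA]
      exact sup_le (root_cen (by decide) (by decide)) (root_cen (by decide) (by decide))
  have c1 : Nat.card A ∣ Fintype.card F * (Fintype.card F ^ 2 - 1) := hA ▸ card_pair (F := F) (r := 33) (by decide)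
  have c2 : Nat.card B ∣ Fintype.card F * (Fintype.card F ^ 2 - 1) := hB ▸ card_pair (F := F) (r := 24) (by decide)
  have c3 : Nat.card (chevF4.unipotentRadical F J2) ∣ Fintype.card F ^ 24 := by
    rw [← card_U]
    refine card_dvd_of_le (closure_mono ?_)
    rintro y ⟨s, c, hs, -, e⟩
    exact ⟨s, c, hs, e⟩
  have c4 : ¬ r ∣ Fintype.card F * (Fintype.card F ^ 2 - 1) := fun k =>
    (hr.dvd_mul.1 k).elim (not_dvd_q hr h) (not_dvd_two hq hr h h3)
  have h5 := (Subgroup.orderOf_dvd_natCard _ h1).trans (card_sup_dvd n1)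
  rw [ho] at h5
  rcases hr.dvd_mul.1 h5 with h6 | h6
  · rcases hr.dvd_mul.1 (h6.trans (card_sup_dvd n2)) with h7 | h7
    · exact c4 (h7.trans c1)
    · exact c4 (h7.trans c2)
  · exact not_dvd_q hr h (hr.dvd_of_dvd_pow (h6.trans c3))

/-- **the field `LocF.inv`** -/
theorem inv (F : Type) [Field F] [Fintype F] [CharP F 2] (γ : MulAut (SS F)) (hγ : H95.DG.F4.IsGraph γ)
    (x : SS F) (r : ℕ) (h2 : x * x = 1) (h1 : x ≠ 1) (hr : r.Prime)
    (h : r ∣ Fintype.card F ^ 2 + Fintype.card F + 1) (h3 : r ≠ 3)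
    (hc : r ∣ Nat.card (centralizer ({x} : Set (SS F)))) :
    ∃ g, g * x * g⁻¹ ∈ Z0 F ∨ γ (g * x * g⁻¹) ∈ Z0 F := by
  have : Fact r.Prime := ⟨hr⟩
  have : Fact (Nat.Prime 2) := ⟨Nat.prime_two⟩
  have hfin : Finite (GG F) := inferInstance
  have hox : orderOf (x : GG F) = 2 := by
    rw [Subgroup.orderOf_coe]
    exact orderOf_eq_prime (by rw [sq, h2]) h1
  obtain ⟨y, hy, hm, k, hk, e⟩ := (S2174.result (F := F)).2.1 x x.2 hox
  obtain ⟨c, hco⟩ := exists_prime_orderOf_dvd_card' r hc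
  have hcx : (c : SS F) * x = x * c := mem_centralizer_singleton_iff.1 c.2
  obtain ⟨g, hg⟩ : ∃ g : SS F, g = ⟨k, hk⟩ * (c : SS F) * ⟨k, hk⟩⁻¹ := ⟨_, rfl⟩
  have hgo : orderOf g = r := by
    rw [hg, ← hco, ← Subgroup.orderOf_coe c]
    exact (MulAut.conj (⟨k, hk⟩ : SS F)).orderOf_eq (c : SS F)
  have hgy : (g : GG F) ∈ chevF4.group F ⊓ centralizer {y} := by
    refine ⟨g.2, mem_centralizer_singleton_iff.2 ?_⟩
    have h4 : ((c : SS F) : GG F) * x = x * ((c : SS F) : GG F) := congrArg Subtype.val hcx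
    have h5 : (g : GG F) = k * ((c : SS F) : GG F) * k⁻¹ := by rw [hg]; rfl
    rw [h5, ← e]
    calc k * ((c : SS F) : GG F) * k⁻¹ * (k * x * k⁻¹) = k * (((c : SS F) : GG F) * x) * k⁻¹ := by group
      _ = _ := by rw [h4]; group
  simp only [List.mem_cons, List.not_mem_nil, or_false] at hm
  rcases hm with hm | hm | hm | hm
  · refine ⟨⟨k, hk⟩, Or.inl ((mem_XX hD).2 ⟨1, Subtype.ext ?_⟩)⟩
    exact e.trans ((eq_xG_iff hD y 47 1).2 hm)
  · refine ⟨⟨k, hk⟩, Or.inr ?_⟩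
    have h4 : (⟨k, hk⟩ : SS F) * x * ⟨k, hk⟩⁻¹ = xe hD 44 1 := Subtype.ext (e.trans ((eq_xG_iff hD y 44 1).2 hm))
    rw [h4, hγ 44 (by decide)]
    exact xe_mem_XX hD 47 _
  · rw [(S2179.result y (xG hD 39 1 * xG hD 45 1) hm rfl).1] at hgy
    exact (no_w hr h h3 hgo hgy).elim
  · rw [(S2179.result (xG hD 47 1 * xG hD 44 1) y rfl hm).2] at hgy
    exact (no_v hr h h3 ((Subgroup.orderOf_coe g).trans hgo) hgy).elim

end Cfsg.Agent.SM.F4L
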