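import Cfsg.Agent.SM.F4L.Rho

/-!
# SM (S3570), `F₄(q)`, `q` even: `C(X_47, X_0) ≅ Sp₆(q)` (helper48)
-/

set_option autoImplicit false

namespace Cfsg.Agent.SM.F4L

open Cfsg Cfsg.Lie Cfsg.Agent.ChevalleyStructure.Elts Cfsg.Agent.ChevalleyStructure.F4MaskBase
  Cfsg.Agent.ChevalleyStructure.F4Tab Cfsg.Agent.SM.F4 Cfsg.Agent.H70.ChevFix Cfsg.Agent.H70.ChevField
  Cfsg.Agent.Schreier.ChevLocal Subgroup
open Cfsg.Agent.H95.DG.F4 (hD)

variable {F : Type} [Field F]

/-! ### the stabiliser of the flag is `B` -/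

theorem fl_tab : ∀ r < 48, chevF4.IsPosRoot r → chkT fl6 r = true := by decide +kernel

theorem borel_le [CharP F 2] : chevF4.borelSubgroup F ≤ St F fl6 :=
  sup_le ((posUnipotent_le_iff hD _).2 fun r hr t => xG_mem_St hr.1 (fl_tab r hr.1 hr) t) fun _ hh => diag_mem_St _ hh

theorem low_tab : ∀ k < 4, ∃ i j : chevF4.Idx, fl6 (pos j) < fl6 (pos i) ∧ chevF4.neg (chevF4.simple k) < 48 ∧
    chevF4.IsPosRoot (chevF4.simple k) ∧
    (xc (chevF4.neg (chevF4.simple k)) (pos j)).testBit (pos i) = true ∧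
    (yc (chevF4.neg (chevF4.simple k)) (pos j)).testBit (pos i) = false := by
  intro k hk
  interval_cases k
  · exact ⟨Sum.inr ⟨40, by decide⟩, Sum.inr ⟨44, by decide⟩, by decide +kernel⟩
  · exact ⟨Sum.inr ⟨39, by decide⟩, Sum.inr ⟨40, by decide⟩, by decide +kernel⟩
  · exact ⟨Sum.inr ⟨38, by decide⟩, Sum.inr ⟨39, by decide⟩, by decide +kernel⟩
  · exact ⟨Sum.inr ⟨28, by decide⟩, Sum.inr ⟨29, by decide⟩, by decide +kernel⟩

theorem nG_not_mem [CharP F 2] {k : ℕ} (hk : k < 4) : nG hD (chevF4.simple k) (1 : F) ∉ St F fl6 := by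
  intro h
  obtain ⟨i, j, h1, h2, h3, h4, h5⟩ := low_tab k hk
  have h6 : xG hD (chevF4.simple k) (1 : F) ∈ St F fl6 :=
    borel_le ((le_sup_left : _ ≤ chevF4.borelSubgroup F) (xG_mem_posUnipotent hD h3 1))
  rw [nG_def, mul_mem_cancel_left h6, mul_mem_cancel_right h6] at h
  have h7 : chevF4.x F (chevF4.neg (chevF4.simple k)) (-1⁻¹) i j = 0 := mem_St.1 h i j h1
  have hne : i ≠ j := by
    rintro rfl
    exact lt_irrefl _ h1
  rw [ChevalleyStructure.F4Char2.x_entry h2, h4, h5, if_neg hne, b2_false, b2_true] at h7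
  simp at h7

theorem mem_BB [CharP F 2] {g : SS F} (hg : (g : GG F) ∈ St F fl6) : g ∈ BB chevF4 F := by
  obtain ⟨P, hPB, -, hPS⟩ := Cfsg.Agent.S1042.result (F := F) chevF4 hD
  obtain ⟨K, hKS, hK⟩ := Cfsg.Agent.S0311.result P ((St F fl6).subgroupOf (chevF4.group F)) (by
    rw [hPB]
    exact fun g hg => borel_le hg)
  have hK0 : K = ∅ := by
    rw [Set.eq_empty_iff_forall_notMem]
    intro a ha
    have haS := hKS ha
    rw [hPS] at haS
    obtain ⟨i, hi, hai⟩ := haS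
    have hae : (a : GG F) = nG hD (chevF4.simple i) 1 := (eq_nG_iff hD _ _ _).2 hai
    have haQ : a ∈ (St F fl6).subgroupOf (chevF4.group F) := by
      rw [hK]
      exact mem_sup_right (subset_closure ha)
    rw [mem_subgroupOf, hae] at haQ
    exact nG_not_mem hi haQ
  have h1 : g ∈ (St F fl6).subgroupOf (chevF4.group F) := hg
  rw [hK, hK0, BNPair.parabolic, Subgroup.closure_empty, sup_bot_eq, hPB] at h1
  exact h1

theorem fl_cases : ∀ n < 52, fl6 n = 6 ∨ ∃ a : I6, n = 4 + rt6 a := by decide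

theorem fl_le (n : ℕ) : fl6 n ≤ 6 := by
  unfold fl6
  split_ifs <;> omega

/-- an element acting trivially on the module stabilises the flag -/
theorem mem_St_of {g : GG F} (hg : g ∈ St F md6) (h1 : r0 g = 1) : g ∈ St F fl6 := by
  rw [mem_St]
  intro i j hij
  have hne : i ≠ j := by
    rintro rfl
    exact lt_irrefl _ hij
  rcases fl_cases (pos j) (pos_lt j) with h | ⟨b, h⟩
  · have := fl_le (pos i)
    omega
  · obtain rfl : j = em b := pos_injective h
    by_cases hi : i ∈ Set.range em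
    · obtain ⟨a, rfl⟩ := hi
      rw [← r0_apply, h1, Matrix.one_apply_ne (fun e => hne (congrArg em e))]
    · exact mem_St.1 hg i (em b) (by rw [md6_em, md6_not hi]; exact Nat.zero_lt_one)

/-! ### Weyl words -/

theorem ne_conj [CharP F 2] {i s : ℕ} (hi : i < 4) (hs : s < 48) (t : F) :
    ne hD (chevF4.simple i) (1 : F) * xe hD s t * (ne hD (chevF4.simple i) (1 : F))⁻¹ =
      xe hD (chevF4.reflectRoot i s) t := by
  obtain ⟨η, h1, h2⟩ := Cfsg.Agent.S1031.result (F := F) chevF4 hD i s hi hs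
  have h3 : (η : F) = 1 := by
    rcases h1 with rfl | rfl
    · exact Int.cast_one
    · rw [Int.cast_neg, Int.cast_one, CharTwo.neg_eq]
  rw [mul_inv_eq_iff_eq_mul]
  apply Subtype.ext
  refine Units.ext ?_
  have h4 := h2 t
  rw [h3, one_mul] at h4
  show ((nG hD (chevF4.simple i) (1 : F) : GG F) : Matrix chevF4.Idx chevF4.Idx F) * chevF4.x F s t =
    chevF4.x F (chevF4.reflectRoot i s) t * ((nG hD (chevF4.simple i) (1 : F) : GG F) : Matrix chevF4.Idx chevF4.Idx F)
  rw [coe_nG]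
  exact h4

/-- a word in the `n_i` -/
def nw (F : Type) [Field F] (w : List ℕ) : SS F := (w.map fun i => ne hD (chevF4.simple i) (1 : F)).prod

/-- the action on the roots -/
def wa (w : List ℕ) (r : ℕ) : ℕ := w.foldr (fun i s => chevF4.reflectRoot i s) r

theorem refl_lt : ∀ i < 4, ∀ s < 48, chevF4.reflectRoot i s < 48 := by decide +kernel

theorem wa_lt {w : List ℕ} (hw : ∀ i ∈ w, i < 4) {s : ℕ} (hs : s < 48) : wa w s < 48 := by
  induction w with
  | nil => exact hs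
  | cons i w ih => exact refl_lt i (hw i List.mem_cons_self) _ (ih fun j hj => hw j (List.mem_cons_of_mem _ hj))

theorem nw_conj [CharP F 2] {w : List ℕ} (hw : ∀ i ∈ w, i < 4) {s : ℕ} (hs : s < 48) (t : F) :
    nw F w * xe hD s t * (nw F w)⁻¹ = xe hD (wa w s) t := by
  induction w with
  | nil => simp [nw, wa]
  | cons i w ih =>
    have h1 : ∀ j ∈ w, j < 4 := fun j hj => hw j (List.mem_cons_of_mem _ hj)
    have h2 : nw F (i :: w) = ne hD (chevF4.simple i) (1 : F) * nw F w := List.prod_cons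
    have h3 : wa (i :: w) s = chevF4.reflectRoot i (wa w s) := rfl
    rw [h2, h3, ← ne_conj (hw i List.mem_cons_self) (wa_lt h1 hs), ← ih h1]
    group

theorem nw_mem {Y : Subgroup (SS F)} {w : List ℕ} (hw : ∀ i ∈ w, ne hD (chevF4.simple i) (1 : F) ∈ Y) : nw F w ∈ Y :=
  Y.list_prod_mem fun x hx => by
    obtain ⟨i, hi, rfl⟩ := List.mem_map.1 hx
    exact hw i hi

/-- the word carrying the root `24` to the root `47` -/
def wu : List ℕ := [3, 2, 1, 2, 0, 1, 2]

/-- `n_47` -/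
def nt (F : Type) [Field F] : SS F := xe hD 47 (1 : F) * (xe hD 0 (-1⁻¹ : F) * xe hD 47 (1 : F))

theorem nt_eq [CharP F 2] : nt F = nw F wu * ne hD (chevF4.simple 3) (1 : F) * (nw F wu)⁻¹ := by
  have h1 := nw_conj (F := F) (w := wu) (by decide) (s := 24) (by decide) 1
  have h2 := nw_conj (F := F) (w := wu) (by decide) (s := 23) (by decide) (-1⁻¹)
  rw [show wa wu 24 = 47 by decide +kernel] at h1
  rw [show wa wu 23 = 0 by decide +kernel] at h2
  rw [nt, ← h1, ← h2, ne_def, show chevF4.neg (chevF4.simple 3) = 23 from rfl, show chevF4.simple 3 = 24 from rfl]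
  group

/-- the reflection in the highest root -/
def st (r : ℕ) : ℕ := wa wu (chevF4.reflectRoot 3 (wa wu.reverse r))

theorem wu_tab : ∀ s < 48, wa wu (wa wu.reverse s) = s := by decide +kernel

theorem nt_conj [CharP F 2] {s : ℕ} (hs : s < 48) (t : F) : nt F * xe hD s t * (nt F)⁻¹ = xe hD (st s) t := by
  have h0 : wa wu.reverse s < 48 := wa_lt (by decide) hs
  have h1 := nw_conj (F := F) (w := wu) (by decide) h0 t
  rw [wu_tab s hs] at h1
  rw [nt_eq, st, ← nw_conj (by decide) (refl_lt 3 (by decide) _ h0), ← ne_conj (by decide) h0, ← h1]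
  group

theorem nt_comm {g : SS F} (hg : g ∈ L0 F) : nt F * g * (nt F)⁻¹ = g := by
  obtain ⟨h1, h2⟩ := (mem_L0 g).1 hg
  have h3 := h1 _ (xe_mem_XX hD 47 (1 : F))
  have h4 := h2 _ (xe_mem_XX hD 0 (-1⁻¹ : F))
  rw [mul_inv_eq_iff_eq_mul, nt, mul_assoc, mul_assoc, ← h3, ← mul_assoc (xe hD 0 _), ← h4, ← mul_assoc, ← mul_assoc,
    ← h3]
  simp only [mul_assoc]

/-- the longest word of the Levi factor -/
def wc : List ℕ := [0, 1, 2, 0, 1, 2, 0, 1, 2]

/-- the longest element -/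
def w0 (F : Type) [Field F] : SS F := nt F * nw F wc

theorem w0_tab : ∀ s < 48, st (wa wc s) = 47 - s := by decide +kernel

theorem w0_conj [CharP F 2] {s : ℕ} (hs : s < 48) (t : F) : w0 F * xe hD s t * (w0 F)⁻¹ = xe hD (47 - s) t := by
  rw [← w0_tab s hs, ← nt_conj (wa_lt (by decide) hs), ← nw_conj (by decide) hs, w0]
  group

theorem sign_tab : ∀ s < 48, (chevF4.IsPosRoot s → chevF4.IsNegRoot (47 - s)) ∧
    (chevF4.IsNegRoot s → chevF4.IsPosRoot (47 - s)) := by decide +kernel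

theorem mem_VN_iff [CharP F 2] (v : SS F) : v ∈ VN chevF4 F ↔ w0 F * v * (w0 F)⁻¹ ∈ UU chevF4 F := by
  constructor
  · intro hv
    have h : chevF4.negUnipotent F ≤ (chevF4.posUnipotent F).comap (MulAut.conj (w0 F : GG F)).toMonoidHom := by
      refine (negUnipotent_le_iff hD _).2 fun r hr t => ?_
      have h1 := congrArg Subtype.val (w0_conj (F := F) hr.1 t)
      show (w0 F : GG F) * xG hD r t * (w0 F : GG F)⁻¹ ∈ chevF4.posUnipotent F
      rw [show (w0 F : GG F) * xG hD r t * (w0 F : GG F)⁻¹ = xG hD (47 - r) t from h1]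
      exact xG_mem_posUnipotent hD ((sign_tab r hr.1).2 hr) t
    exact h hv
  · intro hv
    have h : chevF4.posUnipotent F ≤ (chevF4.negUnipotent F).comap (MulAut.conj (w0 F : GG F)⁻¹).toMonoidHom := by
      refine (posUnipotent_le_iff hD _).2 fun r hr t => ?_
      have hr' : r < 48 := hr.1
      have h1 := congrArg Subtype.val (w0_conj (F := F) (s := 47 - r) (by omega) t)
      rw [show 47 - (47 - r) = r by omega] at h1
      show (w0 F : GG F)⁻¹ * xG hD r t * (w0 F : GG F)⁻¹⁻¹ ∈ chevF4.negUnipotent F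
      rw [← show (w0 F : GG F) * xG hD (47 - r) t * (w0 F : GG F)⁻¹ = xG hD r t from h1,
        show (w0 F : GG F)⁻¹ * ((w0 F : GG F) * xG hD (47 - r) t * (w0 F : GG F)⁻¹) * (w0 F : GG F)⁻¹⁻¹ =
          xG hD (47 - r) t by group]
      exact xG_mem_negUnipotent hD ((sign_tab r hr.1).1 hr) t
    have h2 : (w0 F : GG F)⁻¹ * ((w0 F : GG F) * (v : GG F) * (w0 F : GG F)⁻¹) * (w0 F : GG F)⁻¹⁻¹ ∈
      chevF4.negUnipotent F := h hv
    rw [show (w0 F : GG F)⁻¹ * ((w0 F : GG F) * (v : GG F) * (w0 F : GG F)⁻¹) * (w0 F : GG F)⁻¹⁻¹ = v by group] at h2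
    exact h2

theorem mem_HH [CharP F 2] {g : SS F} (h1 : g ∈ BB chevF4 F) (h2 : w0 F * g * (w0 F)⁻¹ ∈ BB chevF4 F) :
    g ∈ HH chevF4 F := by
  rw [← normalizer_inf hD]
  rw [← normalizer_UU hD] at h1 h2
  refine ⟨h1, mem_normalizer_iff.2 fun v => ?_⟩
  rw [mem_VN_iff, mem_VN_iff, mem_normalizer_iff.1 h2]
  rw [show w0 F * g * (w0 F)⁻¹ * (w0 F * v * (w0 F)⁻¹) * (w0 F * g * (w0 F)⁻¹)⁻¹ = w0 F * (g * v * g⁻¹) * (w0 F)⁻¹ by
    group]

theorem car_tab : ∀ i < 4, chevF4.cartan i 44 = [1, 0, 0, 0].getD i 0 ∧ chevF4.cartan i 40 = [-1, 1, 0, 0].getD i 0 ∧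
    chevF4.cartan i 39 = [0, -1, 1, 0].getD i 0 ∧ chevF4.cartan i 38 = [0, 1, -1, 1].getD i 0 := by decide +kernel

/-- the torus acts faithfully on the module -/
theorem diag_eq_one {h : GG F} (hh : h ∈ chevF4.diagonalSubgroup F) (h1 : r0 h = 1) : h = 1 := by
  obtain ⟨c, hc, e, -⟩ := H412.OT.tor_data hD hh
  have h2 : ∀ a : I6, ∏ i ∈ Finset.range 4, c i ^ chevF4.cartan i (rt6 a) = 1 := by
    intro a
    have h3 := congrFun (congrFun h1 a) a
    rw [r0_apply, e, Matrix.diagonal_apply_eq, Matrix.one_apply_eq] at h3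
    exact h3
  have k0 : ∏ i ∈ Finset.range 4, c i ^ chevF4.cartan i 44 = 1 := h2 (Sum.inl 0)
  have k1 : ∏ i ∈ Finset.range 4, c i ^ chevF4.cartan i 40 = 1 := h2 (Sum.inl 1)
  have k2 : ∏ i ∈ Finset.range 4, c i ^ chevF4.cartan i 39 = 1 := h2 (Sum.inl 2)
  have k3 : ∏ i ∈ Finset.range 4, c i ^ chevF4.cartan i 38 = 1 := h2 (Sum.inr 2)
  rw [Finset.prod_congr rfl fun i hi => by rw [(car_tab i (Finset.mem_range.1 hi)).1]] at k0
  rw [Finset.prod_congr rfl fun i hi => by rw [(car_tab i (Finset.mem_range.1 hi)).2.1]] at k1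
  rw [Finset.prod_congr rfl fun i hi => by rw [(car_tab i (Finset.mem_range.1 hi)).2.2.1]] at k2
  rw [Finset.prod_congr rfl fun i hi => by rw [(car_tab i (Finset.mem_range.1 hi)).2.2.2]] at k3
  simp only [Finset.prod_range_succ, Finset.prod_range_zero, List.getD_cons_zero, List.getD_cons_succ, zpow_zero,
    zpow_one, one_mul, mul_one, zpow_neg] at k0 k1 k2 k3
  rw [k0, inv_one, one_mul] at k1
  rw [k1, inv_one, one_mul] at k2
  rw [k1, k2, inv_one, one_mul, one_mul] at k3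
  have h4 : ∀ i ∈ Finset.range chevF4.rank, c i = 1 := by
    intro i hi
    have hi' : i < 4 := Finset.mem_range.1 hi
    interval_cases i
    · exact k0
    · exact k1
    · exact k2
    · exact k3
  apply Units.ext
  rw [e, Units.val_one, ← Matrix.diagonal_one]
  congr 1
  funext i
  rcases i with i | s
  · rfl
  · exact Finset.prod_eq_one fun i hi => by rw [h4 i hi, one_zpow]

end Cfsg.Agent.SM.F4L
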