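import Cfsg.Agent.SM.F4.Obj
import Cfsg.Agent.ChevalleyStructure.F4Char2
import Cfsg.Agent.H97.DG.SpClo
import Cfsg.Agent.H412.OT.Defs
import Cfsg.Agent.S2178

/-!
# SM (S3570), `F₄(q)`, `q` even: the six-dimensional module of the centraliser of a long root element (helper48)

The span of the root vectors `e_r`, `r = 44, 40, 39, 29, 36, 38`, is invariant under the parabolic subgroup `N(X_47)`.
-/

set_option autoImplicit false

namespace Cfsg.Agent.SM.F4L

open Cfsg Cfsg.Lie Cfsg.Agent.ChevalleyStructure.Elts Cfsg.Agent.ChevalleyStructure.F4MaskBase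
  Cfsg.Agent.ChevalleyStructure.F4Tab Cfsg.Agent.SM.F4
open Cfsg.Agent.H95.DG.F4 (hD)

/-- index set of the 6-dimensional module -/
abbrev I6 : Type := Fin 3 ⊕ Fin 3

/-- the ambient linear group -/
abbrev GG (F : Type) [Field F] : Type := GL chevF4.Idx F

/-- the short roots `b` with `(b, 47) > 0`, in symplectic order -/
def rt6 : I6 → ℕ := Sum.elim ![44, 40, 39] ![29, 36, 38]

theorem rt6_lt (a : I6) : rt6 a < 48 := by
  revert a
  decide

/-- the coordinates -/
def em (a : I6) : chevF4.Idx := Sum.inr ⟨rt6 a, rt6_lt a⟩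

theorem pos_em (a : I6) : pos (em a) = 4 + rt6 a := rfl

theorem em_inj : Function.Injective em := by
  intro a b h
  have h1 : rt6 a = rt6 b := by
    have := congrArg pos h
    rw [pos_em, pos_em] at this
    omega
  revert a b
  decide

/-- the flag -/
def fl6 (n : ℕ) : ℕ :=
  if n = 48 then 0 else if n = 44 then 1 else if n = 43 then 2 else if n = 42 then 3 else if n = 40 then 4 else
    if n = 33 then 5 else 6

/-- the module -/
def md6 (n : ℕ) : ℕ := if fl6 n < 6 then 0 else 1

theorem md6_em (a : I6) : md6 (pos (em a)) = 0 := by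
  revert a
  decide

theorem md6_tab : ∀ n < 52, md6 n = 1 ∨ ∃ a : I6, n = 4 + rt6 a := by decide

theorem md6_not {i : chevF4.Idx} (hi : i ∉ Set.range em) : md6 (pos i) = 1 := by
  rcases md6_tab (pos i) (pos_lt i) with h | ⟨a, h⟩
  · exact h
  · exact absurd ⟨a, pos_injective h.symm⟩ hi

variable {F : Type} [Field F]

/-- the stabiliser of a flag of coordinate subspaces -/
def St (F : Type) [Field F] (β : ℕ → ℕ) : Subgroup (GG F) where
  carrier := {g | (g : Matrix chevF4.Idx chevF4.Idx F).BlockTriangular fun i => β (pos i)}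
  one_mem' := Matrix.blockTriangular_one
  mul_mem' := fun {a} {b} ha hb => by
    change ((a : Matrix chevF4.Idx chevF4.Idx F) * (b : Matrix chevF4.Idx chevF4.Idx F)).BlockTriangular _
    exact Matrix.BlockTriangular.mul ha hb
  inv_mem' := fun {a} ha => by
    change ((a⁻¹ : GG F) : Matrix chevF4.Idx chevF4.Idx F).BlockTriangular _
    rw [Matrix.coe_units_inv]
    letI := a.invertible
    exact Matrix.blockTriangular_inv_of_blockTriangular ha

theorem mem_St {β : ℕ → ℕ} {g : GG F} :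
    g ∈ St F β ↔ ∀ i j, β (pos j) < β (pos i) → (g : Matrix chevF4.Idx chevF4.Idx F) i j = 0 :=
  ⟨fun h _ _ hij => h hij, fun h _ _ hij => h _ _ hij⟩

/-- the table test -/
def chkT (β : ℕ → ℕ) (r : ℕ) : Bool := (List.range 52).all fun j => (List.range 52).all fun i =>
  !decide (β j < β i) || (!(xc r j).testBit i && !(yc r j).testBit i)

theorem xG_mem_St [CharP F 2] {β : ℕ → ℕ} {r : ℕ} (hr : r < 48) (h : chkT β r = true) (t : F) :
    xG hD r t ∈ St F β := by
  rw [mem_St]
  intro i j hij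
  have h1 := List.all_eq_true.1 (List.all_eq_true.1 h (pos j) (List.mem_range.2 (pos_lt j))) (pos i)
    (List.mem_range.2 (pos_lt i))
  rw [decide_eq_true hij, Bool.not_true, Bool.false_or, Bool.and_eq_true, Bool.not_eq_true', Bool.not_eq_true'] at h1
  have hne : i ≠ j := by
    rintro rfl
    exact lt_irrefl _ hij
  show chevF4.x F r t i j = 0
  rw [ChevalleyStructure.F4Char2.x_entry hr, h1.1, h1.2, if_neg hne, b2_false]
  simp

theorem diag_mem_St (β : ℕ → ℕ) {h : GG F} (hh : h ∈ chevF4.diagonalSubgroup F) : h ∈ St F β := by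
  obtain ⟨c, -, e, -⟩ := H412.OT.tor_data hD hh
  rw [mem_St]
  intro i j hij
  have hne : i ≠ j := by
    rintro rfl
    exact lt_irrefl _ hij
  rw [e, Matrix.diagonal_apply_ne _ hne]

/-- the matrix on the module -/
def r0 (g : GG F) : Matrix I6 I6 F := (g : Matrix chevF4.Idx chevF4.Idx F).submatrix em em

theorem r0_apply (g : GG F) (a b : I6) : r0 g a b = (g : Matrix chevF4.Idx chevF4.Idx F) (em a) (em b) := rfl

theorem r0_one : r0 (1 : GG F) = 1 := by
  unfold r0
  rw [Units.val_one, Matrix.submatrix_one _ em_inj]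

theorem r0_mul (g : GG F) {h : GG F} (hh : h ∈ St F md6) : r0 (g * h) = r0 g * r0 h := by
  ext a b
  rw [r0_apply, Units.val_mul, Matrix.mul_apply, Matrix.mul_apply]
  symm
  refine Fintype.sum_of_injective em em_inj _ _ (fun i hi => ?_) (fun c => rfl)
  rw [mem_St.1 hh i (em b) (by rw [md6_em, md6_not hi]; exact Nat.zero_lt_one), mul_zero]

/-- the elements acting on the module and preserving the form -/
def KK (F : Type) [Field F] : Subgroup (GG F) where
  carrier := {g | g ∈ St F md6 ∧ r0 g ∈ Matrix.symplecticGroup (Fin 3) F}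
  one_mem' := ⟨one_mem _, by rw [r0_one]; exact one_mem _⟩
  mul_mem' := by
    rintro a b ⟨h1, h2⟩ ⟨h3, h4⟩
    exact ⟨mul_mem h1 h3, by rw [r0_mul a h3]; exact mul_mem h2 h4⟩
  inv_mem' := by
    rintro a ⟨h1, h2⟩
    refine ⟨inv_mem h1, ?_⟩
    let A : Matrix.symplecticGroup (Fin 3) F := ⟨r0 a, h2⟩
    have h3 : r0 a⁻¹ * (A : Matrix I6 I6 F) = 1 := by
      show r0 a⁻¹ * r0 a = 1
      rw [← r0_mul _ h1, inv_mul_cancel, r0_one]
    have h4 : (A : Matrix I6 I6 F) * ((A⁻¹ : Matrix.symplecticGroup (Fin 3) F) : Matrix I6 I6 F) = 1 := by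
      rw [← Submonoid.coe_mul, mul_inv_cancel]
      rfl
    have h5 : r0 a⁻¹ = ((A⁻¹ : Matrix.symplecticGroup (Fin 3) F) : Matrix I6 I6 F) := by
      rw [← Matrix.mul_one (r0 a⁻¹), ← h4, ← Matrix.mul_assoc, h3, Matrix.one_mul]
    rw [h5]
    exact (A⁻¹).2

/-- the same in the Chevalley group -/
def KS (F : Type) [Field F] : Subgroup (SS F) := (KK F).comap (chevF4.group F).subtype

theorem mem_KS {g : SS F} : g ∈ KS F ↔ (g : GG F) ∈ KK F := Iff.rfl

/-- **the action on the module** -/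
def rho (F : Type) [Field F] : ↥(KS F) →* Matrix.symplecticGroup (Fin 3) F where
  toFun g := ⟨r0 ((g : SS F) : GG F), (mem_KS.1 g.2).2⟩
  map_one' := Subtype.ext r0_one
  map_mul' a b := Subtype.ext (r0_mul ((a : SS F) : GG F) (mem_KS.1 b.2).1)

theorem rho_coe (g : ↥(KS F)) :
    ((rho F g : Matrix.symplecticGroup (Fin 3) F) : Matrix I6 I6 F) = r0 ((g : SS F) : GG F) := rfl

/-! ### root elements -/

/-- a bit of the linear part -/
def bx (r : ℕ) (c d : I6) : Bool := (xc r (4 + rt6 d)).testBit (4 + rt6 c)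

theorem by_tab : ∀ r ∈ rQ ++ rL, ∀ c d : I6, (yc r (4 + rt6 d)).testBit (4 + rt6 c) = false := by decide +kernel

theorem lt_tab : ∀ r ∈ rQ ++ rL, r < 48 := by decide

theorem md_tab : ∀ r ∈ rQ ++ rL, chkT md6 r = true := by decide +kernel

theorem r0_xG [CharP F 2] {r : ℕ} (hr : r ∈ rQ ++ rL) (t : F) (c d : I6) :
    r0 (xG hD r t) c d = (if c = d then 1 else 0) + t * b2 F (bx r c d) := by
  rw [r0_apply]
  show chevF4.x F r t (em c) (em d) = _
  rw [ChevalleyStructure.F4Char2.x_entry (lt_tab r hr), pos_em, pos_em, by_tab r hr, b2_false, mul_zero, add_zero]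
  unfold bx
  congr 1
  by_cases h : c = d
  · rw [if_pos h, if_pos (congrArg em h)]
  · rw [if_neg h, if_neg (fun e => h (em_inj e))]

theorem bx_Q : ∀ r ∈ rQ, ∀ c d : I6, bx r c d = false := by decide +kernel

theorem r0_Q [CharP F 2] {r : ℕ} (hr : r ∈ rQ) (t : F) : r0 (xG hD r t) = 1 := by
  ext c d
  rw [r0_xG (List.mem_append_left _ hr), bx_Q r hr, b2_false, mul_zero, add_zero, Matrix.one_apply]

/-- the root of a pair of basis vectors -/
def rootOf (a b : I6) : ℕ :=
  Sum.elim (fun i => Sum.elim (fun j => ![![41, 37, 35], ![37, 30, 28], ![35, 28, 25]] i j)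
      (fun j => ![![0, 33, 34], ![14, 0, 27], ![13, 20, 0]] i j) b)
    (fun i => Sum.elim (fun j => ![![0, 14, 13], ![33, 0, 20], ![34, 27, 0]] i j)
      (fun j => ![![6, 10, 12], ![10, 17, 19], ![12, 19, 22]] i j) b) a

theorem rootOf_mem : ∀ a b : I6, b ≠ a.swap → rootOf a b ∈ rL := by decide

theorem rootOf_surj : ∀ r ∈ rL, ∃ a b : I6, b ≠ a.swap ∧ rootOf a b = r := by decide

theorem bx_root : ∀ a b : I6, b ≠ a.swap → ∀ c d : I6,
    bx (rootOf a b) c d = decide ((c = a ∧ d = b.swap) ∨ (c = b ∧ d = a.swap)) := by decide +kernel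

open Cfsg.Agent.H97.DG Cfsg.Agent.ClassicalGeometry.SympBasic in
/-- the root elements of `Sp₆` -/
def ee (a b : I6) (s : F) : Matrix.symplecticGroup (Fin 3) F :=
  if a = b then transv (bv F a) s else et (bv F a) (bv F b) s

open Cfsg.Agent.H97.DG Cfsg.Agent.ClassicalGeometry.SympBasic Cfsg.Agent.ClassicalGeometry.SympAutSemi in
theorem entry_eq (A : Matrix.symplecticGroup (Fin 3) F) (c d : I6) :
    (A : Matrix I6 I6 F) c d = ClassicalGeometry.SympAutSemi.rho 3 F A (bv F d) c := by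
  rw [rho_apply, bv, Matrix.mulVec_single_one]
  rfl

open Cfsg.Agent.H97.DG in
theorem form_char [CharP F 2] (a d : I6) : sympForm 3 F (bv F d) (bv F a) = if d = a.swap then 1 else 0 := by
  rw [form_bv', bv_apply]
  have h1 : sg F a = 1 := by
    rcases a with i | i
    · exact CharTwo.neg_eq (1 : F)
    · rfl
  rw [h1, one_mul, CharTwo.neg_eq]
  by_cases h : d = a.swap
  · rw [if_pos h, if_pos h.symm]
  · rw [if_neg h, if_neg (fun e => h e.symm)]

open Cfsg.Agent.H97.DG Cfsg.Agent.ClassicalGeometry.SympBasic Cfsg.Agent.ClassicalGeometry.SympAutSemi in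
theorem ee_entry [CharP F 2] {a b : I6} (h : b ≠ a.swap) (s : F) (c d : I6) :
    ((ee a b s : Matrix.symplecticGroup (Fin 3) F) : Matrix I6 I6 F) c d =
      (if c = d then 1 else 0) + s * b2 F (decide ((c = a ∧ d = b.swap) ∨ (c = b ∧ d = a.swap))) := by
  rw [entry_eq]
  unfold ee
  by_cases hab : a = b
  · subst hab
    rw [if_pos rfl, rho_transv, form_char, Pi.add_apply, Pi.smul_apply, bv_apply, bv_apply, smul_eq_mul]
    by_cases h1 : c = a <;> by_cases h2 : d = a.swap <;> simp [h1, h2, b2]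
  · rw [if_neg hab, rho_et (form_bb h), form_char, form_char, Pi.add_apply, Pi.add_apply, Pi.smul_apply,
      Pi.smul_apply, bv_apply, bv_apply, bv_apply, smul_eq_mul, smul_eq_mul, add_assoc]
    congr 1
    by_cases h1 : c = a
    · have h3 : c ≠ b := fun e => hab (h1.symm.trans e)
      by_cases h2 : d = b.swap <;> simp [h1, h2, b2, hab]
    · by_cases h3 : c = b <;> by_cases h2 : d = a.swap <;> simp [h1, h2, h3, b2, Ne.symm hab]

theorem r0_L [CharP F 2] {a b : I6} (h : b ≠ a.swap) (s : F) :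
    r0 (xG hD (rootOf a b) s) = ((ee a b s : Matrix.symplecticGroup (Fin 3) F) : Matrix I6 I6 F) := by
  ext c d
  rw [r0_xG (List.mem_append_right _ (rootOf_mem a b h)), ee_entry h, bx_root a b h]

theorem xG_mem_KK [CharP F 2] {r : ℕ} (hr : r ∈ rQ ++ rL) (t : F) : xG hD r t ∈ KK F := by
  refine ⟨xG_mem_St (lt_tab r hr) (md_tab r hr) t, ?_⟩
  rcases List.mem_append.1 hr with h | h
  · rw [r0_Q h]
    exact one_mem _
  · obtain ⟨a, b, h1, rfl⟩ := rootOf_surj r h
    rw [r0_L h1]
    exact (ee a b t).2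

theorem pos_tab : ∀ r < 48, chevF4.IsPosRoot r → r ∈ rQ ++ rL := by decide +kernel

theorem M_le_KK [CharP F 2] : H82.RootCent.M F chevF4 [14, 20, 22] ≤ KK F := by
  refine (H82.RootCent.M_le_iff hD _).2 ⟨fun s hs c => xG_mem_KK (pos_tab s hs.1 hs) c, fun s hs c => xG_mem_KK ?_ c⟩
  revert s
  decide

end Cfsg.Agent.SM.F4L
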